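import Groth.Agent.CiLib.Brauer
import Groth.Agent.CSA.Index
import Groth.Agent.CSA.PGLDescent
import Groth.Agent.CSA.SkolemNoether
import Groth.Agent.GalCoh.Speiser
import Groth.Agent.S0212

/-!
# Cocycles with constant values over `C₁` fields
-/

set_option autoImplicit false
set_option linter.style.haveILetI false
set_option backward.isDefEq.respectTransparency false
set_option maxHeartbeats 800000

universe u v

open scoped TensorProduct

namespace Groth.Agent.Brauer28

open Groth.Agent.CSA

attribute [local instance] CSAGal.matrixAction GpH1.unitsAction CSAGal.pglAction CSAGal.tensorAction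

theorem isCr_one_of_trdeg_le_one {k : Type u} [Field k] [IsAlgClosed k] {K : Type u} [Field K] [Algebra k K]
    (hK : Algebra.trdeg k K ≤ 1) : Curves.IsCr K 1 := by
  obtain ⟨j, hj⟩ := Cardinal.lt_aleph0.1 (hK.trans_lt Cardinal.one_lt_aleph0)
  have hj1 : j ≤ 1 := by rw [hj] at hK; exact_mod_cast hK
  intro n d f hf hd hlt
  obtain ⟨a, ha, ha'⟩ := Groth.Agent.S0212.result k K j hj 1 n (fun _ => f) (fun _ => d) (fun _ => hf) (fun _ => hd) (by
    rw [pow_one] at hlt
    simp only [Finset.univ_unique, Finset.sum_singleton]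
    rcases Nat.le_one_iff_eq_zero_or_eq_one.1 hj1 with rfl | rfl
    · rw [pow_zero]; omega
    · simpa using hlt)
  exact ⟨a, ha, ha' 0⟩

variable {F N : Type u} [Field F] [Field N] [Algebra F N] [FiniteDimensional F N] [IsGalois F N]

/-- Cocycles valued in base constants are coboundaries over a `C₁` field. -/
theorem exists_coboundary (hF : Curves.IsCr F 1) (c : (N ≃ₐ[F] N) → (N ≃ₐ[F] N) → Fˣ)
    (hc : ∀ g h l, c g h * c (g * h) l = c h l * c g (h * l)) :
    ∃ b : (N ≃ₐ[F] N) → Nˣ, ∀ g h, (b g : N) * g (b h) = algebraMap F N (c g h) * b (g * h) := by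
  classical
  let G := N ≃ₐ[F] N
  let r := Fintype.card G
  let e : G ≃ Fin r := Fintype.equivFin G
  have hr : 0 < r := Fintype.card_pos
  let m : G → Matrix (Fin r) (Fin r) F := fun g =>
    Matrix.of fun i j => if i = e (g * e.symm j) then ((c g (e.symm j) : Fˣ) : F) else 0
  have hmm : ∀ g h, m g * m h = (c g h : F) • m (g * h) := fun g h => by
    ext i j
    rw [Matrix.mul_apply, Finset.sum_eq_single (e (h * e.symm j))]
    · simp only [m, Matrix.of_apply, Matrix.smul_apply, Equiv.symm_apply_apply, if_true, mul_assoc g h, smul_eq_mul]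
      split_ifs with hi
      · rw [← Units.val_mul, ← Units.val_mul]
        exact congrArg Units.val ((mul_comm _ _).trans (hc g h _).symm)
      · simp
    · intro x _ hx
      simp [m, hx]
    · simp
  have h1 : ∀ x, c 1 x = c 1 1 := fun x => by
    have h := hc 1 1 x
    rw [one_mul, one_mul] at h
    exact (mul_right_cancel h).symm
  have hm1 : m 1 = (c 1 1 : F) • (1 : Matrix (Fin r) (Fin r) F) := by
    ext i j
    simp only [m, Matrix.of_apply, one_mul, Equiv.apply_symm_apply, h1, Matrix.smul_apply, Matrix.one_apply, smul_eq_mul]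
    split_ifs <;> simp
  have hunit : ∀ g, IsUnit (m g) := fun g => by
    refine Matrix.isUnit_iff_isUnit_det _ |>.2 ?_
    have h := congrArg Matrix.det (hmm g g⁻¹)
    rw [mul_inv_cancel, hm1, Matrix.det_mul, Matrix.det_smul, Matrix.det_smul, Matrix.det_one, mul_one] at h
    refine (isUnit_of_mul_isUnit_left (y := (m g⁻¹).det) ?_)
    rw [h]
    exact ((Units.isUnit _).pow _).mul ((Units.isUnit _).pow _)
  let ι : Matrix (Fin r) (Fin r) F →+* Matrix (Fin r) (Fin r) N := (algebraMap F N).mapMatrix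
  let gl : G → GL (Fin r) N := fun g => ((hunit g).map ι).unit
  have hfix : ∀ (g h : G), g • gl h = gl h := fun g h => by
    apply Units.ext
    show g • (ι (m h)) = ι (m h)
    ext i j
    exact AlgEquiv.commutes g _
  have hgl : ∀ g h, (gl g : Matrix (Fin r) (Fin r) N) * gl h = algebraMap F N (c g h) • (gl (g * h) : Matrix (Fin r) (Fin r) N) := fun g h => by
    show ι (m g) * ι (m h) = algebraMap F N (c g h) • ι (m (g * h))
    rw [← map_mul, hmm]
    ext i j
    simp [ι]
  let coc : GpH1.OneCocycle G (Matrix.ProjGenLinGroup (Fin r) N) :=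
    ⟨fun g => Matrix.ProjGenLinGroup.mk (gl g), fun g h => by
      rw [smul_mk, hfix, ← map_mul, eq_comm]
      refine Matrix.ProjGenLinGroup.mk_eq_mk_iff'.2 ⟨Matrix.GeneralLinearGroup.scalar (Fin r)
        (Units.map (algebraMap F N).toMonoidHom (c g h)⁻¹), ?_, ?_⟩
      · rw [Matrix.GeneralLinearGroup.center_eq_range_scalar]
        exact ⟨_, rfl⟩
      · apply Units.ext
        show (gl g : Matrix (Fin r) (Fin r) N) * gl h * Matrix.scalar (Fin r) (algebraMap F N ((c g h)⁻¹ : Fˣ)) = gl (g * h)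
        rw [hgl, smul_mul_assoc, ← (Matrix.scalar_commute _ (fun r => Commute.all _ r) _).eq, Matrix.scalar_apply, ← Matrix.smul_eq_diagonal_mul, smul_smul, ← map_mul,
          Units.mul_inv, map_one, one_smul]⟩
  obtain ⟨A, _, _, φ, hcen, hsim, hdim, hφ⟩ := exists_form hr coc
  haveI := hcen
  haveI := hsim
  haveI : FiniteDimensional F A := Module.finite_of_finrank_pos (by rw [hdim]; positivity)
  haveI : IsCSA F A := {}
  obtain ⟨n, hn, D, _, _, _, -, ⟨eD⟩⟩ := exists_division_brEq (k := F) A
  let eF : D ≃ₐ[F] F := (AlgEquiv.ofBijective (Algebra.ofId F D) ⟨(algebraMap F D).injective, fun x => Algebra.mem_bot.1 (by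
    rw [Subalgebra.bot_eq_top_iff_finrank_eq_one.2 (CiLib.finrank_eq_one_of_isCr_one hF D)]
    exact Algebra.mem_top)⟩).symm
  let e0 : A ≃ₐ[F] Matrix (Fin n) (Fin n) F := eD.trans eF.mapMatrix
  obtain rfl : n = r := by
    have h := e0.toLinearEquiv.finrank_eq
    rw [hdim, Module.finrank_matrix, Module.finrank_self, Fintype.card_fin, mul_one, ← sq] at h
    exact (Nat.pow_left_injective two_ne_zero h).symm
  let θ : Matrix (Fin r) (Fin r) F →ₐ[F] Matrix (Fin r) (Fin r) N :=
    ((φ.toAlgHom.restrictScalars F).comp Algebra.TensorProduct.includeRight).comp e0.symm.toAlgHom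
  haveI : Nonempty (Fin r) := ⟨⟨0, hr⟩⟩
  let std : Matrix (Fin r) (Fin r) F →ₐ[F] Matrix (Fin r) (Fin r) N := (Algebra.ofId F N).mapMatrix
  let Θ : N ⊗[F] Matrix (Fin r) (Fin r) F →ₐ[N] Matrix (Fin r) (Fin r) N :=
    Algebra.TensorProduct.lift (Algebra.ofId N _) θ fun x a => Algebra.commutes x _
  let Std : N ⊗[F] Matrix (Fin r) (Fin r) F →ₐ[N] Matrix (Fin r) (Fin r) N :=
    Algebra.TensorProduct.lift (Algebra.ofId N _) std fun x a => Algebra.commutes x _
  haveI : IsCSA F (Matrix (Fin r) (Fin r) F) := IsCSA.congr e0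
  haveI : IsCSA N (N ⊗[F] Matrix (Fin r) (Fin r) F) := inferInstance
  obtain ⟨U, hU⟩ := CSA.skolem_noether N Std Θ
  have hθ : ∀ X, θ X = (U : Matrix (Fin r) (Fin r) N) * std X * (U⁻¹ : GL (Fin r) N) := fun X => by
    have h := hU (1 ⊗ₜ X)
    simpa [Θ, Std] using h
  have hinv : ∀ (g : G) (X : Matrix (Fin r) (Fin r) F), conjBy (gl g * g • U) (std X) = conjBy U (std X) := fun g X => by
    have h := hφ g (gl g) rfl (θ X)
    have h' : φ (g • φ.symm (θ X)) = θ X := by
      show φ (g • φ.symm (φ (1 ⊗ₜ e0.symm X))) = φ (1 ⊗ₜ e0.symm X)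
      rw [AlgEquiv.symm_apply_apply, tensor_smul_tmul, map_one]
    rw [h', hθ] at h
    rw [conjBy_mul, show conjBy (g • U) (std X) = g • conjBy U (std X) by
      rw [smul_conjBy]; congr 1; ext i j; exact (AlgEquiv.commutes g _).symm]
    exact h.symm
  have hall : ∀ (g : G) (M : Matrix (Fin r) (Fin r) N), conjBy (gl g * g • U) M = conjBy U M := fun g M => by
    rw [Matrix.matrix_eq_sum_single M]
    simp only [conjBy, Finset.mul_sum, Finset.sum_mul]
    refine Finset.sum_congr rfl fun i _ => Finset.sum_congr rfl fun j _ => ?_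
    have hs : Matrix.single i j (M i j) = M i j • std (Matrix.single i j 1) := by
      ext a b
      simp only [std, Matrix.smul_apply, AlgHom.mapMatrix_apply, Matrix.map_apply, Matrix.single_apply, smul_eq_mul]
      split_ifs <;> simp
    rw [hs]
    exact (conjBy_smul _ _ _).trans ((congrArg (M i j • ·) (hinv g _)).trans (conjBy_smul _ _ _).symm)
  have hb : ∀ g : G, ∃ b : Nˣ, ((gl g * g • U : GL (Fin r) N) : Matrix (Fin r) (Fin r) N) = (b : N) • (U : Matrix (Fin r) (Fin r) N) := fun g => by
    obtain ⟨s, hs⟩ := CSA.exists_scalar_of_conj_eq (k := N) U (gl g * g • U) fun X => (hall g X).symm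
    rw [← Algebra.smul_def] at hs
    refine ⟨Units.mk0 s fun h0 => ?_, hs⟩
    rw [h0, zero_smul] at hs
    exact (gl g * g • U).ne_zero hs
  choose b hb using hb
  refine ⟨b, fun g h => ?_⟩
  have e1 : (gl g : Matrix (Fin r) (Fin r) N) * (g • ((gl h * h • U : GL (Fin r) N) : Matrix (Fin r) (Fin r) N)) =
      ((b g : N) * g (b h)) • (U : Matrix (Fin r) (Fin r) N) := by
    rw [hb h, matrix_smul_smul, mul_smul_comm,
      show (gl g : Matrix (Fin r) (Fin r) N) * g • (U : Matrix (Fin r) (Fin r) N) = (b g : N) • (U : Matrix (Fin r) (Fin r) N) from hb g,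
      smul_smul, mul_comm]
  have e2 : (gl g : Matrix (Fin r) (Fin r) N) * (g • ((gl h * h • U : GL (Fin r) N) : Matrix (Fin r) (Fin r) N)) =
      (algebraMap F N (c g h) * b (g * h)) • (U : Matrix (Fin r) (Fin r) N) := by
    rw [Units.val_mul, smul_mul', show g • (gl h : Matrix (Fin r) (Fin r) N) = gl h from congrArg Units.val (hfix g h),
      ← mul_assoc, hgl, smul_mul_assoc,
      show g • ((h • U : GL (Fin r) N) : Matrix (Fin r) (Fin r) N) = ((g * h) • U : GL (Fin r) N) by rw [mul_smul]; rfl,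
      ← Units.val_mul, hb (g * h), smul_smul]
  have hUne : (U : Matrix (Fin r) (Fin r) N) ≠ 0 := U.ne_zero
  exact smul_left_injective N hUne (e1.symm.trans e2)

end Groth.Agent.Brauer28
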