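import Groth.Prelude.Def_ConstAct2
import Groth.Prelude.Def_ActBC
import Groth.Prelude.Def_NonAbH2
import Groth.Agent.NoriFGS27.PullbackTorsor
import Mathlib.FieldTheory.Galois.Basic
import Mathlib.LinearAlgebra.Dual.Lemmas

/-!
# The torsor of a finite Galois extension under the constant group of a subfield
-/

set_option autoImplicit false
set_option backward.isDefEq.respectTransparency.types false
set_option backward.isDefEq.respectTransparency false
set_option linter.style.haveILetI false
set_option maxHeartbeats 800000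
set_option synthInstance.maxHeartbeats 200000

universe u

open CategoryTheory Limits AlgebraicGeometry MonoidalCategory CartesianMonoidalCategory MonObj Opposite

namespace Groth.Agent.Brauer28

/-- An action invariant over `S'` is an action of the base-changed group. -/
theorem exists_lifted_action {S S' : Scheme.{u}} (f : S' ⟶ S) {G Y : Over S} [GrpObj G] (a : AlgGrp.Action G Y)
    (π : Y.left ⟶ S') (hπ : π ≫ f = Y.hom) (hinv : a.act.left ≫ π = (snd G Y).left ≫ π) :
    ∃ a' : AlgGrp.Action (Red.bc f G) (Over.mk π), ∀ (T : Over S') (g : T ⟶ Red.bc f G) (x : T ⟶ Over.mk π)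
      (x₀ : (Over.map f).obj T ⟶ Y), x₀.left = x.left →
      (lift g x ≫ a'.act).left = (lift (((Over.mapPullbackAdj f).homEquiv T G).symm g) x₀ ≫ a.act).left := by
  let he : ∀ T : Over S', ((Over.map f).obj T ⟶ G) ≃ (T ⟶ Red.bc f G) := fun T => (Over.mapPullbackAdj f).homEquiv T G
  let flat : ∀ {T : Over S'} (x : T ⟶ Over.mk π), (Over.map f).obj T ⟶ Y := fun {T} x =>
    Over.homMk x.left (by
      show x.left ≫ Y.hom = T.hom ≫ f
      rw [← hπ, ← Category.assoc]
      exact congrArg (· ≫ f) (Over.w x))
  let U : Over S' := Red.bc f G ⊗ Over.mk π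
  let act' : U ⟶ Over.mk π :=
    Over.homMk (lift ((he U).symm (fst _ _)) (flat (snd _ _)) ≫ a.act).left (by
      show (lift ((he U).symm (fst _ _)) (flat (snd _ _)) ≫ a.act).left ≫ π = U.hom
      rw [Over.comp_left, Category.assoc, hinv, ← Category.assoc, ← Over.comp_left, lift_snd]
      exact Over.w (snd (Red.bc f G) (Over.mk π)))
  have key : ∀ (T : Over S') (g : T ⟶ Red.bc f G) (x : T ⟶ Over.mk π) (x₀ : (Over.map f).obj T ⟶ Y),
      x₀.left = x.left → (lift g x ≫ act').left = (lift ((he T).symm g) x₀ ≫ a.act).left := by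
    intro T g x x₀ hx
    have e1 : (he T).symm g = (Over.map f).map (lift g x) ≫ (he U).symm (fst _ _) := by
      rw [← Adjunction.homEquiv_naturality_left_symm, lift_fst]
    have e2 : x₀ = (Over.map f).map (lift g x) ≫ flat (snd _ _) := by
      ext1
      rw [hx]
      exact (congrArg CommaMorphism.left (lift_snd g x)).symm
    rw [e1, e2, ← comp_lift, Category.assoc]
    rfl
  have hsymm_mul : ∀ (T : Over S') (g h : T ⟶ Red.bc f G), (he T).symm (g * h) = (he T).symm g * (he T).symm h :=
    fun T g h => (he T).injective (by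
      rw [Equiv.apply_symm_apply, AlgGrp.Action.homEquiv_mul, Equiv.apply_symm_apply, Equiv.apply_symm_apply])
  have hsymm_one : ∀ (T : Over S'), (he T).symm 1 = 1 := fun T => by
    have h := hsymm_mul T 1 1
    rw [_root_.one_mul] at h
    exact mul_eq_left.1 h.symm
  refine ⟨{ act := act', one_act := ?_, mul_act := ?_ }, key⟩
  · apply AlgGrp.Action.hom_ext_lift₂
    intro W v x
    rw [lift_whiskerRight_assoc, lift_leftUnitor_hom,
      show v ≫ η[Red.bc f G] = (1 : W ⟶ Red.bc f G) by rw [Hom.one_def, toUnit_unique v (toUnit W)]]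
    apply Over.OverMorphism.ext
    rw [key W 1 x (flat x) rfl, hsymm_one, show lift 1 (flat x) ≫ a.act = flat x from NonAbLib.actPt_one a _]
    rfl
  · apply AlgGrp.Action.hom_ext_lift₃
    intro W g h x
    rw [lift_whiskerRight_assoc, lift_lift_associator_hom_assoc, lift_whiskerLeft_assoc, ← Hom.mul_def]
    apply Over.OverMorphism.ext
    rw [key W (g * h) x (flat x) rfl, key W g (lift h x ≫ act') (lift ((he W).symm h) (flat x) ≫ a.act)
      (key W h x (flat x) rfl).symm, hsymm_mul]
    exact congrArg CommaMorphism.left (NonAbLib.actPt_mul a _ _ _)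

/-- Points criterion for the lifted action to be a pseudo-torsor. -/
theorem isPseudoTorsorSch_lifted {S S' : Scheme.{u}} (f : S' ⟶ S) {G Y : Over S} [GrpObj G] (a : AlgGrp.Action G Y)
    (π : Y.left ⟶ S') (hπ : π ≫ f = Y.hom) (hinv : a.act.left ≫ π = (snd G Y).left ≫ π)
    (a' : AlgGrp.Action (Red.bc f G) (Over.mk π))
    (ha' : ∀ (T : Over S') (g : T ⟶ Red.bc f G) (x : T ⟶ Over.mk π) (x₀ : (Over.map f).obj T ⟶ Y),
      x₀.left = x.left → (lift g x ≫ a'.act).left = (lift (((Over.mapPullbackAdj f).homEquiv T G).symm g) x₀ ≫ a.act).left)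
    (hiso : IsIso (pullback.lift a.act.left (snd G Y).left hinv : (G ⊗ Y).left ⟶ pullback π π)) :
    NonAbH1.IsPseudoTorsorSch a' := by
  refine NoriFGS27.isPseudoTorsor_of_existsUnique a' fun W x y => ?_
  let he : ((Over.map f).obj W ⟶ G) ≃ (W ⟶ Red.bc f G) := (Over.mapPullbackAdj f).homEquiv W G
  let sh : (G ⊗ Y).left ⟶ pullback π π := pullback.lift a.act.left (snd G Y).left hinv
  have hw : y.left ≫ π = x.left ≫ π := (Over.w y).trans (Over.w x).symm
  let z : W.left ⟶ (G ⊗ Y).left := pullback.lift y.left x.left hw ≫ inv sh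
  have hz : z ≫ sh = pullback.lift y.left x.left hw := by simp [z]
  have hz1 : z ≫ a.act.left = y.left := by
    have := congrArg (· ≫ pullback.fst π π) hz
    simpa [sh, pullback.lift_fst] using this
  have hz2 : z ≫ (snd G Y).left = x.left := by
    have := congrArg (· ≫ pullback.snd π π) hz
    simpa [sh, pullback.lift_snd] using this
  have hzw : z ≫ (G ⊗ Y).hom = ((Over.map f).obj W).hom := by
    rw [← Over.w (snd G Y), ← Category.assoc, hz2, ← hπ, ← Category.assoc]
    exact congrArg (· ≫ f) (Over.w x)
  let Z : (Over.map f).obj W ⟶ G ⊗ Y := Over.homMk z hzw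
  refine ⟨he (Z ≫ fst G Y), ?_, fun g hg => ?_⟩
  · apply Over.OverMorphism.ext
    show (lift (he (Z ≫ fst G Y)) x ≫ a'.act).left = y.left
    rw [ha' W (he (Z ≫ fst G Y)) x (Z ≫ snd G Y) hz2, Equiv.symm_apply_apply, lift_comp_fst_snd, Over.comp_left]
    exact hz1
  · refine he.symm.injective ?_
    rw [Equiv.symm_apply_apply]
    have h := ha' W g x (Z ≫ snd G Y) hz2
    rw [show lift g x ≫ a'.act = y from hg] at h
    have hZ : (lift (he.symm g) (Z ≫ snd G Y)).left = z := by
      rw [← cancel_mono sh, hz]
      apply pullback.hom_ext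
      · rw [Category.assoc, pullback.lift_fst, pullback.lift_fst, ← Over.comp_left]
        exact h.symm
      · rw [Category.assoc, pullback.lift_snd, pullback.lift_snd, ← Over.comp_left, lift_snd]
        exact hz2
    exact (lift_fst (he.symm g) (Z ≫ snd G Y)).symm.trans
      (congrArg (· ≫ fst G Y) (Over.OverMorphism.ext hZ : lift (he.symm g) (Z ≫ snd G Y) = Z))

/-- A finite Galois extension of `K` is a torsor under a finite constant group over any subfield `k`. -/
theorem exists_torsor (k K : Type u) [Field k] [Field K] [Algebra k K]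
    (N : Type u) [Field N] [Algebra K N] [FiniteDimensional K N] [IsGalois K N] :
    ∃ (S : Over (Spec (CommRingCat.of k))) (_ : GrpObj S) (_ : IsFinite S.hom)
      (β : NonAbH1.TorsorSch (Red.bc (Spec.map (CommRingCat.ofHom (algebraMap k K))) S) Scheme.etalePrecoverage),
      Nonempty (β.X ≅ Over.mk (Spec.map (CommRingCat.ofHom (algebraMap K N)))) := by
  classical
  letI : Algebra k N := ((algebraMap K N).comp (algebraMap k K)).toAlgebra
  haveI : IsScalarTower k K N := IsScalarTower.of_algebraMap_eq fun _ => rfl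
  let G := N ≃ₐ[K] N
  haveI : SMulCommClass G k N := ⟨fun g r x => by
    show g (r • x) = r • g x
    rw [← algebraMap_smul K r x, map_smul, algebraMap_smul]⟩
  let f : Spec (CommRingCat.of K) ⟶ Spec (CommRingCat.of k) := Spec.map (CommRingCat.ofHom (algebraMap k K))
  let π : (ConstAct.X k N).left ⟶ Spec (CommRingCat.of K) := Spec.map (CommRingCat.ofHom (algebraMap K N))
  have hπ : π ≫ f = (ConstAct.X k N).hom := by
    show _ = Spec.map (CommRingCat.ofHom (algebraMap k N))
    rw [← Spec.map_comp]
    rfl
  let a := ConstAct.gaction k N G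
  let B := G → N
  let gu : ConstGrp.F k G →ₐ[k] B := AlgHom.pi (A := fun _ : G => N) fun g => ConstAct.constPt k G g
  let xu : N →ₐ[k] B := AlgHom.pi (A := fun _ : G => N) fun _ => AlgHom.id k N
  let δ : N →ₐ[k] B := AlgHom.pi (A := fun _ : G => N) fun g => (MulSemiringAction.toAlgEquiv k N g⁻¹ : N →ₐ[k] N)
  let ξ := lift (CoactBr.pt gu) (CoactBr.pt xu)
  have hgu : ∀ (e : ConstGrp.F k G) (g : G), gu e g = algebraMap k N (e g) := fun _ _ => rfl
  have hxu : ∀ (x : N) (g : G), xu x g = x := fun _ _ => rfl
  have hact : ξ ≫ a.act = CoactBr.pt δ := by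
    let _ := ConstAct.comod k N G
    have _ := ConstAct.isCoactAlg k N G
    show lift (CoactBr.pt gu) (CoactBr.pt xu) ≫ (ConstAct.gaction k N G).act = _
    rw [ConstAct.gaction_eq, CoactBr.lift_pt_action_act]
    congr 1
    refine AlgHom.ext fun x => funext fun g => ?_
    change ((Algebra.TensorProduct.lift xu (gu.comp (HopfAlgebra.antipodeAlgHom k (ConstGrp.F k G)))
        fun _ _ => .all _ _) (ConstAct.coactLin k N G x)) g = g⁻¹ • x
    simp only [ConstAct.coactLin_apply, map_sum, Algebra.TensorProduct.lift_tmul,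
      AlgHom.comp_apply, HopfAlgebra.antipodeAlgHom_apply, ConstGrp.antipode_e]
    refine (map_sum (Pi.evalRingHom (fun _ : G => N) g) _ _).trans ?_
    have hterm : ∀ h : G, Pi.evalRingHom (fun _ : G => N) g (xu (h • x) * gu (ConstGrp.e k h⁻¹)) =
        if g = h⁻¹ then h • x else 0 := fun h => by
      show xu (h • x) g * gu (ConstGrp.e k h⁻¹) g = _
      rw [hxu, hgu, ConstGrp.e_apply]
      split_ifs <;> simp
    rw [Finset.sum_congr rfl fun h _ => hterm h, Finset.sum_eq_single g⁻¹]
    · exact if_pos (inv_inv g).symm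
    · intro h _ hne
      exact if_neg fun e => hne (by rw [e, inv_inv])
    · simp
  let κ : TensorProduct k (ConstGrp.F k G) N →ₐ[k] B := Algebra.TensorProduct.lift gu xu fun _ _ => .all _ _
  have hκ : Function.Bijective κ := by
    have hb : ∀ (v : G → N), κ (∑ g, ConstGrp.e k g ⊗ₜ v g) = v := fun v => funext fun h => by
      simp only [κ, map_sum, Algebra.TensorProduct.lift_tmul]
      refine (map_sum (Pi.evalRingHom (fun _ : G => N) h) _ _).trans ?_
      have hterm : ∀ g : G, Pi.evalRingHom (fun _ : G => N) h (gu (ConstGrp.e k g) * xu (v g)) =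
          if h = g then v g else 0 := fun g => by
        show gu (ConstGrp.e k g) h * xu (v g) h = _
        rw [hgu, hxu, ConstGrp.e_apply]
        split_ifs <;> simp
      rw [Finset.sum_congr rfl fun g _ => hterm g, Finset.sum_eq_single h]
      · simp
      · intro g _ hne
        exact if_neg hne.symm
      · simp
    refine ⟨fun s t hst => ?_, fun v => ⟨_, hb v⟩⟩
    have hsurj : ∀ s, ∃ v : G → N, ∑ g, ConstGrp.e k g ⊗ₜ[k] v g = s := fun s => by
      induction s using TensorProduct.induction_on with
      | zero => exact ⟨0, by simp⟩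
      | tmul e x =>
        refine ⟨fun g => e g • x, ?_⟩
        conv_rhs => rw [ConstGrp.eq_sum_smul_e e, TensorProduct.sum_tmul]
        exact Finset.sum_congr rfl fun g _ => (TensorProduct.smul_tmul _ _ _).symm
      | add x y hx hy =>
        obtain ⟨v, rfl⟩ := hx
        obtain ⟨w, rfl⟩ := hy
        exact ⟨v + w, by simp [TensorProduct.tmul_add, Finset.sum_add_distrib]⟩
    obtain ⟨v, rfl⟩ := hsurj s
    obtain ⟨w, rfl⟩ := hsurj t
    rw [hb, hb] at hst
    rw [hst]
  let δK : N →ₐ[K] B := AlgHom.pi (A := fun _ : G => N) fun g => (g⁻¹ : G).toAlgHom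
  let xK : N →ₐ[K] B := AlgHom.pi (A := fun _ : G => N) fun _ => AlgHom.id K N
  let γK : TensorProduct K N N →ₐ[K] B := Algebra.TensorProduct.lift δK xK fun _ _ => .all _ _
  have hγK : Function.Bijective γK := by
    have hsurj : Function.Surjective γK := by
      let W : Submodule N B :=
        { carrier := Set.range γK
          add_mem' := fun {x y} ⟨a, ha⟩ ⟨b, hb⟩ => ⟨a + b, by rw [map_add, ha, hb]⟩
          zero_mem' := ⟨0, map_zero _⟩
          smul_mem' := fun c x ⟨a, ha⟩ => ⟨(1 ⊗ₜ c) * a, by
            rw [map_mul, ha]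
            refine funext fun g => ?_
            have hx : γK (1 ⊗ₜ c) g = c := by
              simp only [γK, Algebra.TensorProduct.lift_tmul, map_one, _root_.one_mul]
              rfl
            show γK (1 ⊗ₜ c) g * x g = c * x g
            rw [hx]⟩ }
      suffices hW : W = ⊤ by
        intro v
        have : v ∈ W := hW ▸ Submodule.mem_top
        exact this
      by_contra hne
      obtain ⟨φ, hφ0, hφ⟩ := Submodule.exists_dual_map_eq_bot_of_lt_top (lt_top_iff_ne_top.2 hne) inferInstance
      refine hφ0 ((Pi.basisFun N G).ext fun g => ?_)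
      have hli : LinearIndependent N fun σ : G => ((σ⁻¹).toLinearMap : N →ₗ[K] N) :=
        (linearIndependent_toLinearMap K N N).comp (fun σ : G => (σ⁻¹).toAlgHom) fun x y h =>
          inv_injective (AlgEquiv.ext fun z => DFunLike.congr_fun h z)
      have h0 : ∑ σ : G, φ (Pi.single σ 1) • ((σ⁻¹).toLinearMap : N →ₗ[K] N) = 0 := by
        refine LinearMap.ext fun x => ?_
        have hx : φ (δK x) = 0 := (Submodule.mem_bot N).1 (hφ ▸ Submodule.mem_map_of_mem
          (show δK x ∈ W from ⟨x ⊗ₜ 1, by simp [γK]⟩))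
        rw [pi_eq_sum_univ' (δK x), map_sum] at hx
        simp only [LinearMap.sum_apply, LinearMap.smul_apply, LinearMap.zero_apply, smul_eq_mul]
        rw [← hx]
        refine Finset.sum_congr rfl fun σ _ => ?_
        rw [map_smul, smul_eq_mul, mul_comm]
        rfl
      rw [Pi.basisFun_apply, LinearMap.zero_apply]
      exact Fintype.linearIndependent_iff.1 hli _ h0 g
    have hdim : Module.finrank K (TensorProduct K N N) = Module.finrank K B := by
      rw [Module.finrank_tensorProduct, Module.finrank_pi_fintype, Finset.sum_const, Finset.card_univ,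
        ← Nat.card_eq_fintype_card, IsGalois.card_aut_eq_finrank, smul_eq_mul]
    exact ⟨(γK.toLinearMap.injective_iff_surjective_of_finrank_eq_finrank hdim).2 hsurj, hsurj⟩
  let F₁ := Spec.map (CommRingCat.ofHom (algebraMap k (ConstGrp.F k G)))
  let F₂ := Spec.map (CommRingCat.ofHom (algebraMap k N))
  let ξ' : Spec (CommRingCat.of B) ⟶ pullback F₁ F₂ := ξ.left
  have hξ1 : ξ' ≫ pullback.fst F₁ F₂ = Spec.map (CommRingCat.ofHom gu.toRingHom) :=
    congrArg CommaMorphism.left (lift_fst (CoactBr.pt gu) (CoactBr.pt xu))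
  have hξ2 : ξ' ≫ pullback.snd F₁ F₂ = Spec.map (CommRingCat.ofHom xu.toRingHom) :=
    congrArg CommaMorphism.left (lift_snd (CoactBr.pt gu) (CoactBr.pt xu))
  haveI : IsIso (CommRingCat.ofHom κ.toRingHom) := (ConcreteCategory.isIso_iff_bijective _).2 hκ
  have hξ : ξ' = Spec.map (CommRingCat.ofHom κ.toRingHom) ≫ (pullbackSpecIso k (ConstGrp.F k G) N).inv := by
    apply pullback.hom_ext
    · rw [hξ1, Category.assoc, pullbackSpecIso_inv_fst, ← Spec.map_comp]
      congr 2
      exact RingHom.ext fun e => (show gu e = κ (e ⊗ₜ 1) by simp [κ])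
    · rw [hξ2, Category.assoc, pullbackSpecIso_inv_snd, ← Spec.map_comp]
      congr 2
      exact RingHom.ext fun e => (show xu e = κ (1 ⊗ₜ e) by simp [κ])
  haveI : IsIso ξ' := by rw [hξ]; infer_instance
  haveI : IsIso ξ.left := ‹IsIso ξ'›
  have hinv : a.act.left ≫ π = (snd (ConstAct.GR k G) (ConstAct.X k N)).left ≫ π := by
    rw [← cancel_epi ξ.left, ← Category.assoc, ← Category.assoc, ← Over.comp_left, ← Over.comp_left, hact, lift_snd,
      CoactBr.pt_left, CoactBr.pt_left, ← Spec.map_comp, ← Spec.map_comp]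
    congr 1
    refine CommRingCat.hom_ext (RingHom.ext fun c => funext fun g => ?_)
    exact AlgEquiv.commutes (g⁻¹ : G) c
  obtain ⟨a', ha'⟩ := exists_lifted_action f a π hπ hinv
  have hsh : IsIso (pullback.lift a.act.left (snd (ConstAct.GR k G) (ConstAct.X k N)).left hinv :
      (ConstAct.GR k G ⊗ ConstAct.X k N).left ⟶ pullback π π) := by
    haveI : IsIso (CommRingCat.ofHom γK.toRingHom) := (ConcreteCategory.isIso_iff_bijective _).2 hγK
    have e : ξ.left ≫ pullback.lift a.act.left (snd (ConstAct.GR k G) (ConstAct.X k N)).left hinv =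
        Spec.map (CommRingCat.ofHom γK.toRingHom) ≫ (pullbackSpecIso K N N).inv := by
      apply pullback.hom_ext
      · rw [Category.assoc, Category.assoc, pullback.lift_fst, pullbackSpecIso_inv_fst, ← Spec.map_comp,
          ← Over.comp_left, hact, CoactBr.pt_left]
        congr 2
        refine RingHom.ext fun x => funext fun g => ?_
        show δ x g = γK (x ⊗ₜ 1) g
        simp only [γK, Algebra.TensorProduct.lift_tmul, map_one, _root_.mul_one]
        rfl
      · rw [Category.assoc, Category.assoc, pullback.lift_snd, pullbackSpecIso_inv_snd, ← Spec.map_comp,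
          ← Over.comp_left, lift_snd, CoactBr.pt_left]
        congr 2
        refine RingHom.ext fun x => funext fun g => ?_
        show xu x g = γK (1 ⊗ₜ x) g
        simp only [γK, Algebra.TensorProduct.lift_tmul, map_one, _root_.one_mul]
        rfl
    haveI : IsIso (ξ.left ≫ pullback.lift a.act.left (snd (ConstAct.GR k G) (ConstAct.X k N)).left hinv) := by
      rw [e]; infer_instance
    exact IsIso.of_isIso_comp_left ξ.left _
  refine ⟨ConstAct.GR k G, inferInstance, ?_, ⟨Over.mk π, a', isPseudoTorsorSch_lifted f a π hπ hinv a' ha' hsh, ?_⟩, ⟨Iso.refl _⟩⟩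
  · exact (IsFinite.SpecMap_iff _).2 (RingHom.finite_algebraMap.2 inferInstance)
  · haveI : Algebra.FormallyEtale K N := Algebra.FormallyEtale.of_isSeparable K N
    haveI : Algebra.FinitePresentation K N := Algebra.FinitePresentation.of_finiteType.1 inferInstance
    haveI : Algebra.Etale K N := {}
    haveI : Etale π := (HasRingHomProperty.Spec_iff (P := @Etale)).2 (RingHom.etale_algebraMap.2 (inferInstanceAs (Algebra.Etale K N)))
    haveI : Surjective π := ⟨fun p => ⟨(IsLocalRing.closedPoint N : PrimeSpectrum N), Subsingleton.elim (α := PrimeSpectrum K) _ _⟩⟩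
    refine ⟨Presieve.singleton π, ?_, ?_⟩
    · exact (Scheme.singleton_mem_precoverage_iff (P := @Etale) π).2 ⟨Surjective.surj (f := π), ‹Etale π›⟩
    · rintro _ _ ⟨⟩
      exact ⟨𝟙 _, Category.id_comp _⟩

end Groth.Agent.Brauer28
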