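import Groth.Agent.Brauer28.GalTorsor
import Groth.Agent.Brauer28.Coboundary
import Groth.Agent.Et18.Descent
import Groth.Agent.CSA.ReducedCharpoly
import Mathlib.FieldTheory.Normal.Closure
import Mathlib.FieldTheory.Fixed

/-!
# Essential dimension one and splitting of division algebras
-/

set_option autoImplicit false
set_option linter.style.haveILetI false
set_option linter.unusedSectionVars false
set_option backward.isDefEq.respectTransparency false
set_option backward.isDefEq.respectTransparency.types false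
set_option maxHeartbeats 1600000
set_option synthInstance.maxHeartbeats 100000

universe u

open CategoryTheory Limits AlgebraicGeometry
open scoped TensorProduct

namespace Groth.Agent.Brauer28

open Groth.Agent.CSA

/-- Normalised descent data of a division algebra, with constant cocycle. -/
structure NormData (k K E D : Type u) [Field k] [Field K] [Algebra k K] [Field E] [Algebra K E]
    [DivisionRing D] [Algebra E D] where
  N : Type u
  [fieldN : Field N]
  [algK : Algebra K N]
  [algE : Algebra E N]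
  [algk : Algebra k N]
  [tower : IsScalarTower K E N]
  [towerk : IsScalarTower k K N]
  [fin : FiniteDimensional K N]
  [gal : IsGalois K N]
  n : ℕ
  hn : 0 < n
  hdim : Module.finrank E D = n ^ 2
  f : D →ₐ[E] Matrix (Fin n) (Fin n) N
  A : (N ≃ₐ[E] N) → GL (Fin n) N
  c : (N ≃ₐ[E] N) → (N ≃ₐ[E] N) → kˣ
  conj : ∀ h d, (A h : Matrix (Fin n) (Fin n) N) * (f d).map h * ((A h)⁻¹ : GL (Fin n) N) = f d
  cocycle : ∀ g h, (A g : Matrix (Fin n) (Fin n) N) * (A h : Matrix (Fin n) (Fin n) N).map g =
    algebraMap k N (c g h) • (A (g * h) : Matrix (Fin n) (Fin n) N)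

attribute [instance] NormData.fieldN NormData.algK NormData.algE NormData.algk NormData.tower NormData.towerk
  NormData.fin NormData.gal

variable (k K : Type u) [Field k] [IsAlgClosed k] [CharZero k] [Field K] [Algebra k K]
  (E : Type u) [Field E] [Algebra K E] [FiniteDimensional K E]
  (D : Type u) [DivisionRing D] [Algebra E D] [Algebra.IsCentral E D] [FiniteDimensional E D]

theorem exists_normData : Nonempty (NormData k K E D) := by
  classical
  haveI : CharZero K := charZero_of_injective_algebraMap (algebraMap k K).injective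
  haveI : CharZero E := charZero_of_injective_algebraMap (algebraMap K E).injective
  haveI : IsCSA E D := {}
  let n := CSA.deg E D
  have hn : 0 < n := CSA.deg_pos E D
  have hdim : Module.finrank E D = n ^ 2 := (CSA.deg_sq E D).symm
  obtain ⟨N₀, _, _, _, _, ⟨f₀⟩⟩ := CSA.exists_galois_rep E D hdim.symm
  let Ω := AlgebraicClosure E
  haveI : Algebra.IsAlgebraic K E := Algebra.IsAlgebraic.of_finite K E
  haveI : IsScalarTower K E Ω := inferInstance
  haveI : Algebra.IsAlgebraic K Ω := Algebra.IsAlgebraic.trans K E Ω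
  haveI : IsAlgClosure K Ω := ⟨inferInstance, inferInstance⟩
  haveI : Normal K Ω := IsAlgClosure.normal K Ω
  let j : N₀ →ₐ[E] Ω := IsAlgClosed.lift
  letI : Algebra K N₀ := ((algebraMap E N₀).comp (algebraMap K E)).toAlgebra
  haveI : IsScalarTower K E N₀ := IsScalarTower.of_algebraMap_eq fun _ => rfl
  haveI : FiniteDimensional K N₀ := Module.Finite.trans E N₀
  let W₁ : IntermediateField K Ω := (j.restrictScalars K).fieldRange
  haveI : FiniteDimensional K W₁ := (j.restrictScalars K).toLinearMap.finiteDimensional_range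
  let N₁ : IntermediateField K Ω := IntermediateField.normalClosure K W₁ Ω
  have hEN : ∀ x : E, algebraMap E Ω x ∈ N₁ := fun x =>
    IntermediateField.le_normalClosure W₁ ⟨algebraMap E N₀ x, j.commutes x⟩
  letI : Algebra E N₁ := ((algebraMap E Ω).codRestrict N₁.toSubalgebra hEN).toAlgebra
  haveI : IsScalarTower K E N₁ := IsScalarTower.of_algebraMap_eq fun x =>
    Subtype.ext (IsScalarTower.algebraMap_apply K E Ω x)
  haveI : IsScalarTower E N₁ Ω := IsScalarTower.of_algebraMap_eq fun _ => rfl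
  haveI : IsGalois K N₁ := {}
  haveI : IsGalois E N₁ := IsGalois.tower_top_of_isGalois K E N₁
  haveI : FiniteDimensional E N₁ := Module.Finite.of_restrictScalars_finite K E N₁
  let i₁ : N₀ →ₐ[E] N₁ :=
    { toFun := fun x => ⟨j x, IntermediateField.le_normalClosure W₁ ⟨x, rfl⟩⟩
      map_one' := Subtype.ext (map_one j)
      map_mul' := fun a b => Subtype.ext (map_mul j a b)
      map_zero' := Subtype.ext (map_zero j)
      map_add' := fun a b => Subtype.ext (map_add j a b)
      commutes' := fun a => Subtype.ext (j.commutes a) }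
  let f₁ : D →ₐ[E] Matrix (Fin n) (Fin n) N₁ := i₁.mapMatrix.comp f₀
  haveI : Nonempty (Fin n) := ⟨⟨0, hn⟩⟩
  let Θ : N₁ ⊗[E] D →ₐ[N₁] Matrix (Fin n) (Fin n) N₁ :=
    Algebra.TensorProduct.lift (Algebra.ofId N₁ _) f₁ fun x a => Algebra.commutes x _
  have hA : ∀ h : N₁ ≃ₐ[E] N₁, ∃ A : GL (Fin n) N₁, ∀ d,
      (A : Matrix (Fin n) (Fin n) N₁) * (f₁ d).map h * (A⁻¹ : GL (Fin n) N₁) = f₁ d := fun h => by
    let Θh : N₁ ⊗[E] D →ₐ[N₁] Matrix (Fin n) (Fin n) N₁ :=
      Algebra.TensorProduct.lift (Algebra.ofId N₁ _) (h.toAlgHom.mapMatrix.comp f₁) fun x a => Algebra.commutes x _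
    haveI : IsCSA N₁ (N₁ ⊗[E] D) := inferInstance
    obtain ⟨u, hu⟩ := CSA.skolem_noether N₁ Θh Θ
    exact ⟨u, fun d => by simpa [Θ, Θh] using (hu (1 ⊗ₜ d)).symm⟩
  choose A₁ hA₁ using hA
  have hroot : ∀ h : N₁ ≃ₐ[E] N₁, ∃ r : Ω, r ^ n = ((A₁ h : Matrix (Fin n) (Fin n) N₁).det : Ω) := fun h =>
    IsAlgClosed.exists_pow_nat_eq _ hn
  choose r hr using hroot
  let W : IntermediateField K Ω := N₁ ⊔ IntermediateField.adjoin K (Set.range r)
  haveI : Finite (Set.range r) := (Set.finite_range r).to_subtype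
  haveI : FiniteDimensional K (IntermediateField.adjoin K (Set.range r)) :=
    IntermediateField.finiteDimensional_adjoin fun x _ => Algebra.IsIntegral.isIntegral x
  haveI : FiniteDimensional K W := IntermediateField.finiteDimensional_sup _ _
  let N : IntermediateField K Ω := IntermediateField.normalClosure K W Ω
  have hle : N₁ ≤ N := le_sup_left.trans (IntermediateField.le_normalClosure W)
  have hrN : ∀ h, r h ∈ N := fun h => (le_sup_right.trans (IntermediateField.le_normalClosure W))
    (IntermediateField.subset_adjoin K _ ⟨h, rfl⟩)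
  letI : Algebra N₁ N := (IntermediateField.inclusion hle).toRingHom.toAlgebra
  letI : Algebra E N := ((algebraMap N₁ N).comp (algebraMap E N₁)).toAlgebra
  haveI : IsScalarTower E N₁ N := IsScalarTower.of_algebraMap_eq fun _ => rfl
  haveI : IsScalarTower K N₁ N := IsScalarTower.of_algebraMap_eq fun _ => Subtype.ext rfl
  haveI : IsScalarTower K E N := IsScalarTower.of_algebraMap_eq fun x =>
    Subtype.ext (IsScalarTower.algebraMap_apply K E Ω x)
  letI : Algebra k N := ((algebraMap K N).comp (algebraMap k K)).toAlgebra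
  haveI : IsScalarTower k K N := IsScalarTower.of_algebraMap_eq fun _ => rfl
  haveI : IsGalois K N := {}
  haveI : IsGalois E N := IsGalois.tower_top_of_isGalois K E N
  haveI : FiniteDimensional E N := Module.Finite.of_restrictScalars_finite K E N
  let ι := (IsScalarTower.toAlgHom E N₁ N)
  let f : D →ₐ[E] Matrix (Fin n) (Fin n) N := ι.mapMatrix.comp f₁
  let π := AlgEquiv.restrictNormalHom (F := E) (K₁ := N) N₁
  have hπ : ∀ (h : N ≃ₐ[E] N) (x : N₁), ι (π h x) = h (ι x) := fun h x => AlgEquiv.restrictNormal_commutes h N₁ x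
  let rN : (N₁ ≃ₐ[E] N₁) → N := fun h => ⟨r h, hrN h⟩
  have hrn : ∀ h, rN h ^ n = ι (A₁ h : Matrix (Fin n) (Fin n) N₁).det := fun h => Subtype.ext (by
    push_cast
    exact hr h)
  have hrne : ∀ h, rN h ≠ 0 := fun h h0 => by
    have := hrn h
    rw [h0, zero_pow hn.ne', eq_comm, map_eq_zero] at this
    exact ((Matrix.isUnit_iff_isUnit_det _).1 (A₁ h).isUnit).ne_zero this
  let As : (N₁ ≃ₐ[E] N₁) → GL (Fin n) N := fun h =>
    Matrix.GeneralLinearGroup.scalar (Fin n) (Units.mk0 (rN h) (hrne h))⁻¹ * Units.map ι.mapMatrix.toRingHom.toMonoidHom (A₁ h)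
  have hAs : ∀ h, (As h : Matrix (Fin n) (Fin n) N) = (rN h)⁻¹ • (A₁ h : Matrix (Fin n) (Fin n) N₁).map ι := fun h => by
    show Matrix.scalar (Fin n) (rN h)⁻¹ * (A₁ h : Matrix (Fin n) (Fin n) N₁).map ι = _
    rw [Matrix.scalar_apply, ← Matrix.smul_eq_diagonal_mul]
  have hdet : ∀ h, (As h : Matrix (Fin n) (Fin n) N).det = 1 := fun h => by
    rw [hAs, Matrix.det_smul, Fintype.card_fin, inv_pow, hrn]
    have : ((A₁ h : Matrix (Fin n) (Fin n) N₁).map ι).det = ι (A₁ h : Matrix (Fin n) (Fin n) N₁).det :=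
      (AlgHom.map_det ι _).symm
    rw [this, inv_mul_cancel₀]
    exact (map_ne_zero ι).2 ((Matrix.isUnit_iff_isUnit_det _).1 (A₁ h).isUnit).ne_zero
  let A : (N ≃ₐ[E] N) → GL (Fin n) N := fun h => As (π h)
  have hconj : ∀ h d, (A h : Matrix (Fin n) (Fin n) N) * (f d).map h * ((A h)⁻¹ : GL (Fin n) N) = f d := fun h d => by
    rw [Units.mul_inv_eq_iff_eq_mul]
    have h1 : (f d).map h = ι.mapMatrix ((f₁ d).map (π h)) := by
      exact Matrix.ext fun a b => (hπ h _).symm
    have h2 := congrArg ι.mapMatrix ((Units.mul_inv_eq_iff_eq_mul _).1 (hA₁ (π h) d))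
    rw [map_mul, map_mul] at h2
    show (As (π h) : Matrix (Fin n) (Fin n) N) * _ = _ * (As (π h) : Matrix (Fin n) (Fin n) N)
    rw [hAs, h1, smul_mul_assoc, mul_smul_comm]
    exact congrArg _ h2
  let ΘN : N ⊗[E] D →ₐ[N] Matrix (Fin n) (Fin n) N :=
    Algebra.TensorProduct.lift (Algebra.ofId N _) f fun x a => Algebra.commutes x _
  have hΘN : Function.Surjective ΘN := by
    haveI : IsCSA N (N ⊗[E] D) := inferInstance
    refine (ΘN.toLinearMap.injective_iff_surjective_of_finrank_eq_finrank ?_).1 (RingHom.injective ΘN.toRingHom)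
    rw [Module.finrank_baseChange, Module.finrank_matrix, Module.finrank_self, hdim, Fintype.card_fin, mul_one, sq]
  have hcs : ∀ g h : N ≃ₐ[E] N, ∃ s : kˣ, (A g : Matrix (Fin n) (Fin n) N) * (A h : Matrix (Fin n) (Fin n) N).map g =
      algebraMap k N s • (A (g * h) : Matrix (Fin n) (Fin n) N) := fun g h => by
    let Bgh : GL (Fin n) N := A g * Units.map g.toAlgHom.mapMatrix.toRingHom.toMonoidHom (A h)
    have hB : (Bgh : Matrix (Fin n) (Fin n) N) =
        (A g : Matrix (Fin n) (Fin n) N) * (A h : Matrix (Fin n) (Fin n) N).map g := rfl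
    have hd : ∀ d, (Bgh : Matrix (Fin n) (Fin n) N) * (f d).map (g * h) = f d * (Bgh : Matrix (Fin n) (Fin n) N) := fun d => by
      rw [hB]
      have e1 := congrArg g.toAlgHom.mapMatrix ((Units.mul_inv_eq_iff_eq_mul _).1 (hconj h d))
      rw [map_mul, map_mul] at e1
      have e2 := (Units.mul_inv_eq_iff_eq_mul _).1 (hconj g d)
      have e3 : (f d).map (g * h : N ≃ₐ[E] N) = ((f d).map h).map g := by ext; rfl
      rw [e3, mul_assoc]
      refine (congrArg ((A g : Matrix (Fin n) (Fin n) N) * ·) e1).trans ?_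
      rw [← mul_assoc]
      exact (congrArg (· * (A h : Matrix (Fin n) (Fin n) N).map g) e2).trans (mul_assoc _ _ _)
    have hc : ∀ X, (Bgh : Matrix (Fin n) (Fin n) N) * X * (Bgh⁻¹ : GL (Fin n) N) =
        (A (g * h) : Matrix (Fin n) (Fin n) N) * X * ((A (g * h))⁻¹ : GL (Fin n) N) := fun X => by
      obtain ⟨z, rfl⟩ : ∃ z, ((ΘN z).map (g * h : N ≃ₐ[E] N)) = X := by
        obtain ⟨z, hz⟩ := hΘN (X.map (g * h : N ≃ₐ[E] N).symm)
        exact ⟨z, by rw [hz]; exact Matrix.ext fun a b => (g * h : N ≃ₐ[E] N).apply_symm_apply _⟩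
      induction z using TensorProduct.induction_on with
      | zero => simp
      | tmul x d =>
        have e : (ΘN (x ⊗ₜ d)).map (g * h : N ≃ₐ[E] N) = (g * h : N ≃ₐ[E] N) x • (f d).map (g * h : N ≃ₐ[E] N) := by
          simp only [ΘN, Algebra.TensorProduct.lift_tmul]
          rw [Algebra.ofId_apply, ← Algebra.smul_def]
          ext a b
          simp
        rw [e, mul_smul_comm, mul_smul_comm, smul_mul_assoc, smul_mul_assoc, hconj, hd, mul_assoc,
          Units.mul_inv, mul_one]
      | add x y hx hy =>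
        rw [map_add, Matrix.map_add (g * h : N ≃ₐ[E] N) (map_add _), mul_add, mul_add, add_mul, add_mul, hx, hy]
    obtain ⟨s, hs⟩ := CSA.exists_scalar_of_conj_eq (k := N) (A (g * h)) Bgh fun X => (hc X).symm
    rw [← Algebra.smul_def] at hs
    have hsn : s ^ n = 1 := by
      have h1 := congrArg Matrix.det hs
      rw [hB, Matrix.det_mul, Matrix.det_smul, hdet, hdet, mul_one, one_mul, Fintype.card_fin] at h1
      rw [← h1, show (A h : Matrix (Fin n) (Fin n) N).map g = g.toAlgHom.mapMatrix (A h : Matrix (Fin n) (Fin n) N) from rfl,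
        ← AlgHom.map_det, hdet, map_one]
    have hP : ((Polynomial.X : Polynomial k) ^ n - 1).Splits := IsAlgClosed.splits _
    have hroots : s ∈ (((Polynomial.X : Polynomial k) ^ n - 1).map (algebraMap k N)).roots := by
      have hne : ((Polynomial.X : Polynomial k) ^ n - 1) ≠ 0 := (Polynomial.monic_X_pow_sub_C 1 hn.ne').ne_zero
      rw [Polynomial.mem_roots (Polynomial.map_ne_zero hne)]
      simp [Polynomial.IsRoot, hsn]
    rw [hP.roots_map] at hroots
    obtain ⟨t, -, rfl⟩ := Multiset.mem_map.1 hroots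
    refine ⟨Units.mk0 t fun h0 => ?_, hB.symm.trans hs⟩
    rw [h0, map_zero, zero_pow hn.ne'] at hsn
    exact zero_ne_one hsn
  choose c hc using hcs
  exact ⟨{ N := N, n := n, hn := hn, hdim := hdim, f := f, A := A, c := c, conj := hconj, cocycle := hc }⟩

variable {k K E D}

theorem NormData.cocycle_id (P : NormData k K E D) (g h l : P.N ≃ₐ[E] P.N) :
    P.c g h * P.c (g * h) l = P.c h l * P.c g (h * l) := by
  have h1 : (P.A g : Matrix (Fin P.n) (Fin P.n) P.N) * (P.A h : Matrix (Fin P.n) (Fin P.n) P.N).map g *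
      (P.A l : Matrix (Fin P.n) (Fin P.n) P.N).map (g * h : P.N ≃ₐ[E] P.N) =
      (algebraMap k P.N (P.c g h) * algebraMap k P.N (P.c (g * h) l)) • (P.A (g * h * l) : Matrix (Fin P.n) (Fin P.n) P.N) := by
    rw [P.cocycle, smul_mul_assoc, P.cocycle, smul_smul]
  have h2 : (P.A g : Matrix (Fin P.n) (Fin P.n) P.N) * (P.A h : Matrix (Fin P.n) (Fin P.n) P.N).map g *
      (P.A l : Matrix (Fin P.n) (Fin P.n) P.N).map (g * h : P.N ≃ₐ[E] P.N) =
      (algebraMap k P.N (P.c h l) * algebraMap k P.N (P.c g (h * l))) • (P.A (g * h * l) : Matrix (Fin P.n) (Fin P.n) P.N) := by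
    rw [mul_assoc, show (P.A h : Matrix (Fin P.n) (Fin P.n) P.N).map g *
      (P.A l : Matrix (Fin P.n) (Fin P.n) P.N).map (g * h : P.N ≃ₐ[E] P.N) =
        g.toAlgHom.mapMatrix ((P.A h : Matrix (Fin P.n) (Fin P.n) P.N) * (P.A l : Matrix (Fin P.n) (Fin P.n) P.N).map h) by
      rw [map_mul]; rfl, P.cocycle]
    have hmap : g.toAlgHom.mapMatrix (algebraMap k P.N (P.c h l) • (P.A (h * l) : Matrix (Fin P.n) (Fin P.n) P.N)) =
        algebraMap k P.N (P.c h l) • (P.A (h * l) : Matrix (Fin P.n) (Fin P.n) P.N).map g := by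
      ext a b
      show g (algebraMap k P.N _ * _) = algebraMap k P.N _ * g _
      rw [map_mul, IsScalarTower.algebraMap_apply k K P.N, IsScalarTower.algebraMap_apply K E P.N, g.commutes]
    rw [hmap, mul_smul_comm, P.cocycle, smul_smul, mul_assoc g h l]
  haveI : Nonempty (Fin P.n) := ⟨⟨0, P.hn⟩⟩
  have h3 := smul_left_injective P.N (P.A (g * h * l)).ne_zero (h1.symm.trans h2)
  refine Units.ext ?_
  push_cast
  exact (algebraMap k P.N).injective (by rw [map_mul, map_mul]; exact h3)

/-- A torsor descending to `L₀` generates the compositum by elements algebraic over `L₀`. -/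
theorem mem_adjoin_algebraic {L L₀ : Type u} [Field L] [Algebra K L] [Field L₀] [Algebra L₀ L]
    {N : Type u} [Field N] [Algebra K N] [FiniteDimensional K N] (X₀ : Over (Spec (CommRingCat.of L₀)))
    (e : Red.bc (Spec.map (CommRingCat.ofHom (algebraMap L₀ L))) X₀ ≅
      Red.bc (Spec.map (CommRingCat.ofHom (algebraMap K L))) (Over.mk (Spec.map (CommRingCat.ofHom (algebraMap K N)))))
    {N' : Type u} [Field N'] [Algebra L N'] [Algebra L₀ N'] [IsScalarTower L₀ L N'] [Algebra K N'] [IsScalarTower K L N']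
    (ψ : N →ₐ[K] N') (x : N) :
    ψ x ∈ Subfield.closure (Set.range (algebraMap L N') ∪ {z | IsAlgebraic L₀ z}) := by
  let fL := Spec.map (CommRingCat.ofHom (algebraMap L₀ L))
  let fK := Spec.map (CommRingCat.ofHom (algebraMap K L))
  let πN := Spec.map (CommRingCat.ofHom (algebraMap K N))
  haveI : IsFinite πN := (IsFinite.SpecMap_iff _).2 (RingHom.finite_algebraMap.2 inferInstance)
  haveI hfin : IsFinite X₀.hom := by
    have := Et18.descends_isFinite.{u}
    have hsnd : IsFinite (pullback.snd X₀.hom fL) := by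
      have h' : IsFinite (e.hom.left ≫ pullback.snd πN fK) := inferInstance
      rwa [show e.hom.left ≫ pullback.snd πN fK = pullback.snd X₀.hom fL from Over.w e.hom] at h'
    haveI : Surjective fL := ⟨fun p => ⟨(IsLocalRing.closedPoint L : PrimeSpectrum L), Subsingleton.elim (α := PrimeSpectrum L₀) _ _⟩⟩
    haveI : Flat fL := (HasRingHomProperty.Spec_iff (P := @Flat)).2 (RingHom.flat_algebraMap_iff.2 inferInstance)
    exact MorphismProperty.of_isPullback_of_descendsAlong (P := @IsFinite) (Q := Et18.FPQC)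
      (IsPullback.of_hasPullback X₀.hom fL).flip ⟨⟨inferInstance, inferInstance⟩, inferInstance⟩ hsnd
  haveI : IsAffine X₀.left := isAffine_of_isAffineHom (Y := Spec (CommRingCat.of L₀)) X₀.hom
  let P : CommRingCat.{u} := Γ(X₀.left, ⊤)
  let i : X₀.left ≅ Spec P := X₀.left.isoSpec
  let σ : CommRingCat.of L₀ ⟶ P := Spec.preimage (i.inv ≫ X₀.hom)
  letI : Algebra L₀ P := σ.hom.toAlgebra
  have hσ : Spec.map (CommRingCat.ofHom (algebraMap L₀ P)) = i.inv ≫ X₀.hom := Spec.map_preimage _
  haveI : Module.Finite L₀ P := RingHom.finite_algebraMap.1 ((IsFinite.SpecMap_iff _).1 (by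
    show IsFinite (Spec.map (CommRingCat.ofHom (algebraMap L₀ P))); rw [hσ]; infer_instance))
  let z : Spec (CommRingCat.of N') ⟶ pullback πN fK :=
    pullback.lift (Spec.map (CommRingCat.ofHom ψ.toRingHom)) (Spec.map (CommRingCat.ofHom (algebraMap L N'))) (by
      rw [← Spec.map_comp, ← Spec.map_comp]
      congr 1
      ext a
      exact (ψ.commutes a).trans (IsScalarTower.algebraMap_apply K L N' a))
  let w : Spec (CommRingCat.of N') ⟶ pullback X₀.hom fL := z ≫ e.inv.left
  let q₀ := Spec.preimage (w ≫ pullback.fst _ _ ≫ i.hom)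
  have hq₀ : Spec.map q₀ = w ≫ pullback.fst _ _ ≫ i.hom := Spec.map_preimage _
  have hw2 : w ≫ pullback.snd X₀.hom fL = Spec.map (CommRingCat.ofHom (algebraMap L N')) := by
    rw [Category.assoc]
    exact (congrArg (z ≫ ·) (Over.w e.inv)).trans (pullback.lift_snd _ _ _)
  let q : P →ₐ[L₀] N' :=
    { q₀.hom with
      commutes' := fun a => ConcreteCategory.congr_hom (f := σ ≫ q₀)
        (g := CommRingCat.ofHom (algebraMap L₀ N')) (Spec.map_injective (by
          rw [Spec.map_comp, hq₀, show Spec.map σ = i.inv ≫ X₀.hom from Spec.map_preimage _]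
          simp only [Category.assoc, Iso.hom_inv_id_assoc]
          rw [pullback.condition, ← Category.assoc, hw2, ← Spec.map_comp]
          congr 1
          ext b
          exact (IsScalarTower.algebraMap_apply L₀ L N' b).symm)) a }
  let qL : P ⊗[L₀] L →ₐ[L₀] N' := Algebra.TensorProduct.lift q (IsScalarTower.toAlgHom L₀ L N') fun _ _ => .all _ _
  let c : Spec (CommRingCat.of (P ⊗[L₀] L)) ⟶ pullback X₀.hom fL :=
    (pullbackSpecIso L₀ P L).inv ≫ pullback.map (Spec.map (CommRingCat.ofHom (algebraMap L₀ P))) fL X₀.hom fL i.inv (𝟙 _) (𝟙 _)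
      (by rw [Category.comp_id, hσ]) (by rw [Category.comp_id, Category.id_comp])
  have hc : Spec.map (CommRingCat.ofHom qL.toRingHom) ≫ c = w := by
    apply pullback.hom_ext
    · simp only [c, Category.assoc, pullback.map, pullback.lift_fst]
      rw [← cancel_mono i.hom]
      simp only [Category.assoc, Iso.inv_hom_id, Category.comp_id]
      rw [pullbackSpecIso_inv_fst, ← Spec.map_comp, ← hq₀]
      congr 1
      ext a
      show qL (a ⊗ₜ 1) = q₀.hom a
      simp [qL]
      rfl
    · simp only [c, Category.assoc, pullback.map, pullback.lift_snd, Category.comp_id]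
      rw [pullbackSpecIso_inv_snd, ← Spec.map_comp, hw2]
      congr 1
      ext a
      show qL (1 ⊗ₜ a) = _
      simp [qL]
  let θ := Spec.preimage (c ≫ e.hom.left ≫ pullback.fst πN fK)
  have hθ : θ ≫ CommRingCat.ofHom qL.toRingHom = CommRingCat.ofHom ψ.toRingHom := Spec.map_injective (by
    rw [Spec.map_comp, show Spec.map θ = c ≫ e.hom.left ≫ pullback.fst πN fK from Spec.map_preimage _,
      ← Category.assoc, hc]
    show (z ≫ e.inv.left) ≫ e.hom.left ≫ _ = _
    rw [Category.assoc, ← Category.assoc e.inv.left, ← Over.comp_left, Iso.inv_hom_id, Over.id_left, Category.id_comp]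
    exact pullback.lift_fst _ _ _)
  have hx : ψ x = qL (θ.hom x) := (ConcreteCategory.congr_hom hθ x).symm
  rw [hx]
  generalize θ.hom x = t
  induction t using TensorProduct.induction_on with
  | zero => rw [map_zero]; exact zero_mem _
  | tmul p l =>
    simp only [qL, Algebra.TensorProduct.lift_tmul]
    refine mul_mem (Subfield.subset_closure (Or.inr ?_)) (Subfield.subset_closure (Or.inl ⟨l, rfl⟩))
    exact ((Algebra.IsIntegral.isIntegral (R := L₀) p).map q).isAlgebraic
  | add a b ha hb => rw [map_add]; exact add_mem ha hb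

/-- Splitting over any field containing `E` and a field over which the torsor has essential dimension one. -/
theorem NormData.split (P : NormData k K E D) (L L₀ : Type u) [Field L] [Algebra K L] [Field L₀] [Algebra k L₀]
    [Algebra L₀ L] (hL : ∀ a : k, algebraMap L₀ L (algebraMap k L₀ a) = algebraMap K L (algebraMap k K a))
    (htr : Algebra.trdeg k L₀ ≤ 1)
    (X₀ : Over (Spec (CommRingCat.of L₀)))
    (e : Red.bc (Spec.map (CommRingCat.ofHom (algebraMap L₀ L))) X₀ ≅
      Red.bc (Spec.map (CommRingCat.ofHom (algebraMap K L))) (Over.mk (Spec.map (CommRingCat.ofHom (algebraMap K P.N)))))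
    (M : Type u) [Field M] [Algebra K M] [Algebra E M] [Algebra L M] [IsScalarTower K E M] [IsScalarTower K L M] :
    ∃ n : ℕ, Nonempty ((M ⊗[E] D) ≃ₐ[M] Matrix (Fin n) (Fin n) M) := by
  classical
  haveI : CharZero K := charZero_of_injective_algebraMap (algebraMap k K).injective
  haveI : CharZero E := charZero_of_injective_algebraMap (algebraMap K E).injective
  haveI : CharZero M := charZero_of_injective_algebraMap (algebraMap E M).injective
  haveI : IsGalois E P.N := IsGalois.tower_top_of_isGalois K E P.N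
  haveI : FiniteDimensional E P.N := Module.Finite.of_restrictScalars_finite K E P.N
  let Ω := AlgebraicClosure M
  let ψ₀ : P.N →ₐ[E] Ω := IsAlgClosed.lift
  let N' : IntermediateField M Ω := IntermediateField.adjoin M (ψ₀.fieldRange : Set Ω)
  haveI : FiniteDimensional M N' := by
    let b := Module.finBasis E P.N
    have : N' = IntermediateField.adjoin M (Set.range fun i => ψ₀ (b i)) := by
      refine le_antisymm (IntermediateField.adjoin_le_iff.2 ?_) (IntermediateField.adjoin.mono M _ _ ?_)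
      · rintro _ ⟨y, rfl⟩
        show ψ₀ y ∈ IntermediateField.adjoin M (Set.range fun i => ψ₀ (b i))
        rw [← b.sum_repr y, map_sum]
        refine sum_mem fun i _ => ?_
        rw [map_smul, Algebra.smul_def, IsScalarTower.algebraMap_apply E M Ω]
        exact mul_mem (IntermediateField.algebraMap_mem _ _) (IntermediateField.subset_adjoin M _ ⟨i, rfl⟩)
      · rintro _ ⟨i, rfl⟩
        exact ⟨b i, rfl⟩
    rw [this]
    haveI : Finite (Set.range fun i => ψ₀ (b i)) := (Set.finite_range _).to_subtype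
    exact IntermediateField.finiteDimensional_adjoin fun x _ => Algebra.IsIntegral.isIntegral x
  haveI : IsAlgClosure M Ω := ⟨inferInstance, inferInstance⟩
  haveI : Normal M Ω := IsAlgClosure.normal M Ω
  haveI : Normal E ψ₀.fieldRange := Normal.of_algEquiv (AlgEquiv.ofInjectiveField ψ₀)
  haveI : Normal M N' := by
    rw [IntermediateField.normal_iff_forall_map_le]
    intro σ
    rw [IntermediateField.adjoin_map, IntermediateField.adjoin_le_iff]
    rintro _ ⟨y, hy, rfl⟩
    refine IntermediateField.subset_adjoin M _ ?_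
    exact (AlgHom.fieldRange_of_normal (E := ψ₀.fieldRange) ((σ.restrictScalars E).comp ψ₀.fieldRange.val)).le ⟨⟨y, hy⟩, rfl⟩
  haveI : IsGalois M N' := {}
  let ψ : P.N →ₐ[E] N' :=
    { toFun := fun y => ⟨ψ₀ y, IntermediateField.subset_adjoin M _ ⟨y, rfl⟩⟩
      map_one' := Subtype.ext (map_one ψ₀)
      map_mul' := fun a b => Subtype.ext (map_mul ψ₀ a b)
      map_zero' := Subtype.ext (map_zero ψ₀)
      map_add' := fun a b => Subtype.ext (map_add ψ₀ a b)
      commutes' := fun a => Subtype.ext (ψ₀.commutes a) }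
  letI : Algebra P.N N' := ψ.toRingHom.toAlgebra
  haveI : IsScalarTower E P.N N' := IsScalarTower.of_algebraMap_eq fun a => (ψ.commutes a).symm
  -- the constants
  letI : Algebra L₀ N' := ((algebraMap M N').comp ((algebraMap L M).comp (algebraMap L₀ L))).toAlgebra
  letI : Algebra L₀ M := ((algebraMap L M).comp (algebraMap L₀ L)).toAlgebra
  haveI : IsScalarTower L₀ M N' := IsScalarTower.of_algebraMap_eq fun _ => rfl
  haveI : IsScalarTower L₀ L N' := IsScalarTower.of_algebraMap_eq fun a => by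
    rw [IsScalarTower.algebraMap_apply L M N']
    rfl
  let N₀ : IntermediateField L₀ N' := algebraicClosure L₀ N'
  let H := N' ≃ₐ[M] N'
  letI : MulSemiringAction H N₀ :=
    { smul := fun h y => ⟨h y.1, mem_algebraicClosure_iff.2
        ((mem_algebraicClosure_iff.1 y.2).algHom ((h : N' ≃ₐ[M] N').toAlgHom.restrictScalars L₀))⟩
      one_smul := fun y => Subtype.ext rfl
      mul_smul := fun g h y => Subtype.ext rfl
      smul_zero := fun g => Subtype.ext (map_zero g)
      smul_add := fun g a b => Subtype.ext (map_add g _ _)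
      smul_one := fun g => Subtype.ext (map_one g)
      smul_mul := fun g a b => Subtype.ext (map_mul g _ _) }
  haveI : IsScalarTower K E N' := IsScalarTower.of_algebraMap_eq fun x =>
    Subtype.ext (IsScalarTower.algebraMap_apply K E Ω x)
  haveI : IsScalarTower K L N' := IsScalarTower.of_algebraMap_eq fun x =>
    Subtype.ext (IsScalarTower.algebraMap_apply K L Ω x)
  have hgen : ∀ y : P.N, ψ y ∈ Subfield.closure (Set.range (algebraMap L N') ∪ {z : N' | IsAlgebraic L₀ z}) :=
    fun y => mem_adjoin_algebraic X₀ e (ψ.restrictScalars K) y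
  have hfaith : ∀ h : H, (∀ y : N₀, h y.1 = y.1) → h = 1 := fun h hh => by
    let S := RingHom.eqLocusField (h : N' ≃ₐ[M] N').toAlgHom.toRingHom (RingHom.id N')
    have hM : ∀ m : M, algebraMap M N' m ∈ S := fun m => h.commutes m
    have hN : ∀ y, ψ y ∈ S := fun y => (Subfield.closure_le.2 (by
      rintro z (⟨l, rfl⟩ | hz)
      · rw [IsScalarTower.algebraMap_apply L M N']
        exact hM _
      · exact hh ⟨z, mem_algebraicClosure_iff.2 hz⟩)) (hgen y)
    refine AlgEquiv.ext fun v => ?_
    obtain ⟨v, hv⟩ := v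
    induction hv using IntermediateField.adjoin_induction with
    | mem y hy => obtain ⟨y, rfl⟩ := hy; exact hN y
    | algebraMap m => exact hM m
    | add a b ha hb h₁ h₂ => exact (map_add h (⟨a, ha⟩ : N') ⟨b, hb⟩).trans (congrArg₂ (· + ·) h₁ h₂)
    | inv a ha h₁ => exact (map_inv₀ h (⟨a, ha⟩ : N')).trans (congrArg (·⁻¹) h₁)
    | mul a b ha hb h₁ h₂ => exact (map_mul h (⟨a, ha⟩ : N') ⟨b, hb⟩).trans (congrArg₂ (· * ·) h₁ h₂)
  haveI : FaithfulSMul H N₀ := ⟨fun {g h} hgh => by
    refine eq_of_inv_mul_eq_one (hfaith _ fun y => ?_)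
    exact (congrArg g.symm (congrArg Subtype.val (hgh y)).symm).trans (g.symm_apply_apply y.1)⟩
  haveI : Finite H := inferInstance
  let F₀ := FixedPoints.subfield H N₀
  -- k inside F₀
  have hkN : ∀ a : k, ψ (algebraMap k P.N a) = algebraMap L₀ N' (algebraMap k L₀ a) := fun a => by
    rw [IsScalarTower.algebraMap_apply k K P.N, IsScalarTower.algebraMap_apply K E P.N, ψ.commutes,
      IsScalarTower.algebraMap_apply E M N', ← IsScalarTower.algebraMap_apply K E M,
      IsScalarTower.algebraMap_apply K L M, ← hL]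
    rfl
  let ηk : k →+* F₀ := ((algebraMap L₀ N₀).comp (algebraMap k L₀)).codRestrict F₀ fun a g => Subtype.ext (by
    show g (algebraMap M N' _) = algebraMap M N' _
    exact g.commutes _)
  letI : Algebra k F₀ := ηk.toAlgebra
  letI : Algebra k N₀ := ((algebraMap L₀ N₀).comp (algebraMap k L₀)).toAlgebra
  haveI : IsScalarTower k L₀ N₀ := IsScalarTower.of_algebraMap_eq fun _ => rfl
  haveI : IsScalarTower k F₀ N₀ := IsScalarTower.of_algebraMap_eq fun _ => rfl
  have htrF : Algebra.trdeg k F₀ ≤ 1 := by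
    have h1 : Algebra.trdeg k N₀ = Algebra.trdeg k L₀ := by
      rw [← trdeg_add_eq k L₀ (A := N₀), trdeg_eq_zero (R := L₀) (A := N₀), add_zero]
    refine le_trans ?_ (h1.le.trans htr)
    rw [← trdeg_add_eq k F₀ (A := N₀)]
    exact le_self_add
  have hF : Curves.IsCr F₀ 1 := isCr_one_of_trdeg_le_one htrF
  let eH := FixedPoints.toAlgAutMulEquiv H N₀
  let res : H →* (P.N ≃ₐ[E] P.N) := (AlgEquiv.restrictNormalHom P.N).comp
    { toFun := fun σ => σ.restrictScalars E, map_one' := rfl, map_mul' := fun _ _ => rfl }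
  have hres : ∀ (σ : H) (y : P.N), ψ (res σ y) = σ (ψ y) := fun σ y =>
    AlgEquiv.restrictNormal_commutes (σ.restrictScalars E) P.N y
  obtain ⟨b, hb⟩ := exists_coboundary (F := F₀) (N := N₀) hF
    (fun σ τ => Units.map ηk.toMonoidHom (P.c (res (eH.symm σ)) (res (eH.symm τ)))) fun g h l => by
      simp only [map_mul]
      rw [← map_mul (Units.map ηk.toMonoidHom), ← map_mul (Units.map ηk.toMonoidHom), P.cocycle_id]
  let bN : H → N' := fun σ => ((b (eH σ) : N₀) : N')
  have hbne : ∀ σ, bN σ ≠ 0 := fun σ h0 => (b (eH σ)).ne_zero (Subtype.ext h0)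
  have hbN : ∀ σ τ, bN σ * σ (bN τ) = ψ (algebraMap k P.N (P.c (res σ) (res τ))) * bN (σ * τ) := fun σ τ => by
    have h := congrArg Subtype.val (hb (eH σ) (eH τ))
    simp only [MulEquiv.symm_apply_apply] at h
    rw [hkN]
    exact h
  let Aψ : H → GL (Fin P.n) N' := fun σ =>
    Matrix.GeneralLinearGroup.scalar (Fin P.n) (Units.mk0 (bN σ) (hbne σ))⁻¹ *
      Units.map ψ.mapMatrix.toRingHom.toMonoidHom (P.A (res σ))
  have hAψ : ∀ σ, (Aψ σ : Matrix (Fin P.n) (Fin P.n) N') = (bN σ)⁻¹ • (P.A (res σ) : Matrix (Fin P.n) (Fin P.n) P.N).map ψ :=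
    fun σ => by
      show Matrix.scalar (Fin P.n) (bN σ)⁻¹ * (P.A (res σ) : Matrix (Fin P.n) (Fin P.n) P.N).map ψ = _
      rw [Matrix.scalar_apply, ← Matrix.smul_eq_diagonal_mul]
  have hmap : ∀ (σ : H) (X : Matrix (Fin P.n) (Fin P.n) P.N), (X.map ψ).map σ = ψ.mapMatrix (X.map (res σ)) :=
    fun σ X => Matrix.ext fun a c => (hres σ _).symm
  obtain ⟨Q, hQ⟩ := GalCoh.exists_GL_eq_mul_map M N' P.n Aψ fun σ τ => by
    have hc := congrArg ψ.mapMatrix (P.cocycle (res σ) (res τ))
    rw [map_mul] at hc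
    rw [hAψ, hAψ, hAψ, show ((bN τ)⁻¹ • (P.A (res τ) : Matrix (Fin P.n) (Fin P.n) P.N).map ψ).map σ =
      (σ (bN τ))⁻¹ • ((P.A (res τ) : Matrix (Fin P.n) (Fin P.n) P.N).map ψ).map σ by ext a c; simp,
      smul_mul_assoc, mul_smul_comm, smul_smul, hmap]
    rw [show (P.A (res σ) : Matrix (Fin P.n) (Fin P.n) P.N).map ψ *
      ψ.mapMatrix ((P.A (res τ) : Matrix (Fin P.n) (Fin P.n) P.N).map (res σ)) = _ from hc]
    rw [show ψ.mapMatrix (algebraMap k P.N (P.c (res σ) (res τ)) • (P.A (res σ * res τ) : Matrix (Fin P.n) (Fin P.n) P.N)) =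
      ψ (algebraMap k P.N (P.c (res σ) (res τ))) • (P.A (res σ * res τ) : Matrix (Fin P.n) (Fin P.n) P.N).map ψ from
        Matrix.ext fun a c => map_mul ψ _ _, smul_smul, ← map_mul res]
    congr 1
    have hne : ψ (algebraMap k P.N (P.c (res σ) (res τ))) ≠ 0 := fun h0 => by
      rw [map_eq_zero, map_eq_zero] at h0
      exact (P.c (res σ) (res τ)).ne_zero h0
    rw [← mul_inv, hbN, mul_inv, mul_comm _ (bN (σ * τ))⁻¹, mul_assoc, inv_mul_cancel₀ hne, mul_one]
  let Y : D →ₐ[E] Matrix (Fin P.n) (Fin P.n) N' :=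
    { toFun := fun d => ((Q⁻¹ : GL (Fin P.n) N') : Matrix (Fin P.n) (Fin P.n) N') * (P.f d).map ψ * (Q : Matrix (Fin P.n) (Fin P.n) N')
      map_one' := by rw [map_one, Matrix.map_one ψ (map_zero ψ) (map_one ψ), mul_one, Units.inv_mul]
      map_mul' := fun a c => by
        rw [map_mul, show ((P.f a) * (P.f c)).map ψ = (P.f a).map ψ * (P.f c).map ψ from map_mul ψ.mapMatrix _ _]
        simp only [mul_assoc, Units.mul_inv_cancel_left]
      map_zero' := by rw [map_zero, Matrix.map_zero ψ (map_zero ψ), mul_zero, zero_mul]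
      map_add' := fun a c => by rw [map_add, Matrix.map_add ψ (map_add ψ), mul_add, add_mul]
      commutes' := fun a => by
        rw [AlgHom.commutes, show (algebraMap E (Matrix (Fin P.n) (Fin P.n) P.N) a).map ψ =
          algebraMap E (Matrix (Fin P.n) (Fin P.n) N') a from AlgHom.commutes ψ.mapMatrix a, ← Algebra.commutes,
          mul_assoc, Units.inv_mul, mul_one] }
  have hfix : ∀ (σ : H) d, (Y d).map σ = Y d := fun σ d => by
    let m := (σ : N' ≃ₐ[M] N').toAlgHom.mapMatrix (m := Fin P.n)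
    have hQ' : m (Q : Matrix (Fin P.n) (Fin P.n) N') = ((Aψ σ)⁻¹ : GL (Fin P.n) N') * (Q : Matrix (Fin P.n) (Fin P.n) N') := by
      have := hQ σ
      rw [← Units.inv_mul_cancel_left (Aψ σ) (m (Q : Matrix (Fin P.n) (Fin P.n) N'))]
      exact congrArg _ this
    have hQi : m ((Q⁻¹ : GL (Fin P.n) N') : Matrix (Fin P.n) (Fin P.n) N') =
        ((Q⁻¹ : GL (Fin P.n) N') : Matrix (Fin P.n) (Fin P.n) N') * (Aψ σ : Matrix (Fin P.n) (Fin P.n) N') := by
      refine left_inv_eq_right_inv (a := m (Q : Matrix (Fin P.n) (Fin P.n) N')) (by rw [← map_mul, Units.inv_mul, map_one]) ?_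
      rw [hQ', mul_assoc, Units.mul_inv_cancel_left, Units.inv_mul]
    have hconj : (Aψ σ : Matrix (Fin P.n) (Fin P.n) N') * ((P.f d).map ψ).map σ * ((Aψ σ)⁻¹ : GL (Fin P.n) N') = (P.f d).map ψ := by
      rw [Units.mul_inv_eq_iff_eq_mul, hAψ, hmap, smul_mul_assoc, mul_smul_comm]
      congr 1
      have := congrArg ψ.mapMatrix ((Units.mul_inv_eq_iff_eq_mul _).1 (P.conj (res σ) d))
      rw [map_mul, map_mul] at this
      exact this
    show m (_ * _ * _) = _
    rw [map_mul, map_mul, hQ', hQi]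
    rw [show m ((P.f d).map ψ) = ((P.f d).map ψ).map σ from rfl]
    conv_rhs => rw [show Y d = ((Q⁻¹ : GL (Fin P.n) N') : Matrix (Fin P.n) (Fin P.n) N') * (P.f d).map ψ * (Q : Matrix (Fin P.n) (Fin P.n) N') from rfl, ← hconj]
    simp only [mul_assoc]
  have hmem : ∀ d i j, Y d i j ∈ Set.range (algebraMap M N') := fun d i j => by
    rw [IsGalois.mem_range_algebraMap_iff_fixed]
    exact fun σ => congrFun (congrFun (hfix σ d) i) j
  choose y hy using hmem
  let ιM : Matrix (Fin P.n) (Fin P.n) M →ₐ[E] Matrix (Fin P.n) (Fin P.n) N' := (IsScalarTower.toAlgHom E M N').mapMatrix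
  have hιM : Function.Injective ιM := Matrix.map_injective (algebraMap M N').injective
  have hy' : ∀ d, ιM (Matrix.of (y d)) = Y d := fun d => Matrix.ext fun i j => hy d i j
  let g : D →ₐ[E] Matrix (Fin P.n) (Fin P.n) M :=
    { toFun := fun d => Matrix.of (y d)
      map_one' := hιM (by rw [hy', map_one, map_one])
      map_mul' := fun a c => hιM (by rw [map_mul, hy', hy', hy', map_mul])
      map_zero' := hιM (by rw [hy', map_zero, map_zero])
      map_add' := fun a c => hιM (by rw [map_add, hy', hy', hy', map_add])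
      commutes' := fun a => hιM (by rw [hy', AlgHom.commutes, AlgHom.commutes]) }
  haveI : IsCSA E D := {}
  haveI : IsCSA M (M ⊗[E] D) := inferInstance
  haveI : Nonempty (Fin P.n) := ⟨⟨0, P.hn⟩⟩
  let Φ : M ⊗[E] D →ₐ[M] Matrix (Fin P.n) (Fin P.n) M :=
    Algebra.TensorProduct.lift (Algebra.ofId M _) g fun x a => Algebra.commutes x _
  have hinj : Function.Injective Φ := RingHom.injective Φ.toRingHom
  refine ⟨P.n, ⟨AlgEquiv.ofBijective Φ ⟨hinj, (Φ.toLinearMap.injective_iff_surjective_of_finrank_eq_finrank ?_).1 hinj⟩⟩⟩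
  rw [Module.finrank_baseChange, Module.finrank_matrix, Module.finrank_self, P.hdim, Fintype.card_fin, mul_one, sq]

end Groth.Agent.Brauer28
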